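import Cfsg.Agent.Comp.TCDefs

set_option autoImplicit false
set_option maxRecDepth 1000000
set_option maxHeartbeats 0

namespace CF.Comp.Fi22

noncomputable def rels : List (List Nat) := [[(nat_lit 1), (nat_lit 1)],
  [(nat_lit 3), (nat_lit 3)],
  [(nat_lit 5), (nat_lit 5)],
  [(nat_lit 7), (nat_lit 7)],
  [(nat_lit 9), (nat_lit 9)],
  [(nat_lit 15), (nat_lit 15)],
  [(nat_lit 11), (nat_lit 11)],
  [(nat_lit 13), (nat_lit 13)],
  [(nat_lit 17), (nat_lit 17)],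
  [(nat_lit 1), (nat_lit 3), (nat_lit 1), (nat_lit 3), (nat_lit 1), (nat_lit 3)],
  [(nat_lit 1), (nat_lit 5), (nat_lit 1), (nat_lit 5)],
  [(nat_lit 1), (nat_lit 7), (nat_lit 1), (nat_lit 7)],
  [(nat_lit 1), (nat_lit 9), (nat_lit 1), (nat_lit 9)],
  [(nat_lit 1), (nat_lit 15), (nat_lit 1), (nat_lit 15)],
  [(nat_lit 1), (nat_lit 11), (nat_lit 1), (nat_lit 11)],
  [(nat_lit 1), (nat_lit 13), (nat_lit 1), (nat_lit 13)],
  [(nat_lit 1), (nat_lit 17), (nat_lit 1), (nat_lit 17)],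
  [(nat_lit 3), (nat_lit 5), (nat_lit 3), (nat_lit 5), (nat_lit 3), (nat_lit 5)],
  [(nat_lit 3), (nat_lit 7), (nat_lit 3), (nat_lit 7)],
  [(nat_lit 3), (nat_lit 9), (nat_lit 3), (nat_lit 9)],
  [(nat_lit 3), (nat_lit 15), (nat_lit 3), (nat_lit 15)],
  [(nat_lit 3), (nat_lit 11), (nat_lit 3), (nat_lit 11)],
  [(nat_lit 3), (nat_lit 13), (nat_lit 3), (nat_lit 13)],
  [(nat_lit 3), (nat_lit 17), (nat_lit 3), (nat_lit 17)],
  [(nat_lit 5), (nat_lit 7), (nat_lit 5), (nat_lit 7), (nat_lit 5), (nat_lit 7)],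
  [(nat_lit 5), (nat_lit 9), (nat_lit 5), (nat_lit 9)],
  [(nat_lit 5), (nat_lit 15), (nat_lit 5), (nat_lit 15)],
  [(nat_lit 5), (nat_lit 11), (nat_lit 5), (nat_lit 11)],
  [(nat_lit 5), (nat_lit 13), (nat_lit 5), (nat_lit 13)],
  [(nat_lit 5), (nat_lit 17), (nat_lit 5), (nat_lit 17)],
  [(nat_lit 7), (nat_lit 9), (nat_lit 7), (nat_lit 9), (nat_lit 7), (nat_lit 9)],
  [(nat_lit 7), (nat_lit 15), (nat_lit 7), (nat_lit 15), (nat_lit 7), (nat_lit 15)],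
  [(nat_lit 7), (nat_lit 11), (nat_lit 7), (nat_lit 11)],
  [(nat_lit 7), (nat_lit 13), (nat_lit 7), (nat_lit 13)],
  [(nat_lit 7), (nat_lit 17), (nat_lit 7), (nat_lit 17)],
  [(nat_lit 9), (nat_lit 15), (nat_lit 9), (nat_lit 15)],
  [(nat_lit 9), (nat_lit 11), (nat_lit 9), (nat_lit 11), (nat_lit 9), (nat_lit 11)],
  [(nat_lit 9), (nat_lit 13), (nat_lit 9), (nat_lit 13)],
  [(nat_lit 9), (nat_lit 17), (nat_lit 9), (nat_lit 17)],
  [(nat_lit 15), (nat_lit 11), (nat_lit 15), (nat_lit 11)],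
  [(nat_lit 15), (nat_lit 13), (nat_lit 15), (nat_lit 13)],
  [(nat_lit 15), (nat_lit 17), (nat_lit 15), (nat_lit 17), (nat_lit 15), (nat_lit 17)],
  [(nat_lit 11), (nat_lit 13), (nat_lit 11), (nat_lit 13), (nat_lit 11), (nat_lit 13)],
  [(nat_lit 11), (nat_lit 17), (nat_lit 11), (nat_lit 17)],
  [(nat_lit 13), (nat_lit 17), (nat_lit 13), (nat_lit 17)],
  [(nat_lit 7), (nat_lit 5), (nat_lit 3), (nat_lit 7), (nat_lit 9), (nat_lit 11), (nat_lit 7), (nat_lit 15), (nat_lit 17), (nat_lit 7), (nat_lit 5), (nat_lit 3), (nat_lit 7), (nat_lit 9), (nat_lit 11), (nat_lit 7), (nat_lit 15), (nat_lit 17), (nat_lit 7), (nat_lit 5), (nat_lit 3), (nat_lit 7), (nat_lit 9), (nat_lit 11), (nat_lit 7), (nat_lit 15), (nat_lit 17), (nat_lit 7), (nat_lit 5), (nat_lit 3), (nat_lit 7), (nat_lit 9), (nat_lit 11), (nat_lit 7), (nat_lit 15), (nat_lit 17), (nat_lit 7), (nat_lit 5), (nat_lit 3), (nat_lit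 7), (nat_lit 9), (nat_lit 11), (nat_lit 7), (nat_lit 15), (nat_lit 17), (nat_lit 7), (nat_lit 5), (nat_lit 3), (nat_lit 7), (nat_lit 9), (nat_lit 11), (nat_lit 7), (nat_lit 15), (nat_lit 17), (nat_lit 7), (nat_lit 5), (nat_lit 3), (nat_lit 7), (nat_lit 9), (nat_lit 11), (nat_lit 7), (nat_lit 15), (nat_lit 17), (nat_lit 7), (nat_lit 5), (nat_lit 3), (nat_lit 7), (nat_lit 9), (nat_lit 11), (nat_lit 7), (nat_lit 15), (nat_lit 17), (nat_lit 7), (nat_lit 5), (nat_lit 3), (nat_lit 7), (nat_lit 9), (nat_lit 11), (nat_lit 7), (nat_lit 15), (nat_lit 17), (nat_lit 7), (nat_lit 5), (nat_lit 3), (nat_lit 7), (nat_lit 9), (nat_lit 11), (nat_lit 7), (nat_lit 15), (nat_lit 17)],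
  [(nat_lit 1), (nat_lit 3), (nat_lit 5), (nat_lit 7), (nat_lit 9), (nat_lit 11), (nat_lit 15), (nat_lit 1), (nat_lit 3), (nat_lit 5), (nat_lit 7), (nat_lit 9), (nat_lit 11), (nat_lit 15), (nat_lit 1), (nat_lit 3), (nat_lit 5), (nat_lit 7), (nat_lit 9), (nat_lit 11), (nat_lit 15), (nat_lit 1), (nat_lit 3), (nat_lit 5), (nat_lit 7), (nat_lit 9), (nat_lit 11), (nat_lit 15), (nat_lit 1), (nat_lit 3), (nat_lit 5), (nat_lit 7), (nat_lit 9), (nat_lit 11), (nat_lit 15), (nat_lit 1), (nat_lit 3), (nat_lit 5), (nat_lit 7), (nat_lit 9), (nat_lit 11), (nat_lit 15), (nat_lit 1), (nat_lit 3), (nat_lit 5), (nat_lit 7), (nat_lit 9), (nat_lit 11), (nat_lit 15), (nat_lit 1), (nat_lit 3), (nat_lit 5), (nat_lit 7), (nat_lit 9), (nat_lit 11), (nat_lit 15), (nat_lit 1), (nat_lit 3), (nat_lit 5), (nat_lit 7), (nat_lit 9), (nat_lit 11), (nat_lit 15)],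
  [(nat_lit 3), (nat_lit 5), (nat_lit 7), (nat_lit 9), (nat_lit 11), (nat_lit 13), (nat_lit 15), (nat_lit 3), (nat_lit 5), (nat_lit 7), (nat_lit 9), (nat_lit 11), (nat_lit 13), (nat_lit 15), (nat_lit 3), (nat_lit 5), (nat_lit 7), (nat_lit 9), (nat_lit 11), (nat_lit 13), (nat_lit 15), (nat_lit 3), (nat_lit 5), (nat_lit 7), (nat_lit 9), (nat_lit 11), (nat_lit 13), (nat_lit 15), (nat_lit 3), (nat_lit 5), (nat_lit 7), (nat_lit 9), (nat_lit 11), (nat_lit 13), (nat_lit 15), (nat_lit 3), (nat_lit 5), (nat_lit 7), (nat_lit 9), (nat_lit 11), (nat_lit 13), (nat_lit 15), (nat_lit 3), (nat_lit 5), (nat_lit 7), (nat_lit 9), (nat_lit 11), (nat_lit 13), (nat_lit 15), (nat_lit 3), (nat_lit 5), (nat_lit 7), (nat_lit 9), (nat_lit 11), (nat_lit 13), (nat_lit 15), (nat_lit 3), (nat_lit 5), (nat_lit 7), (nat_lit 9), (nat_lit 11), (nat_lit 13), (nat_lit 15)]]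
noncomputable def R1 : List (List Nat) := [[(nat_lit 3), (nat_lit 3)],
  [(nat_lit 5), (nat_lit 5)],
  [(nat_lit 7), (nat_lit 7)],
  [(nat_lit 9), (nat_lit 9)],
  [(nat_lit 15), (nat_lit 15)],
  [(nat_lit 11), (nat_lit 11)],
  [(nat_lit 13), (nat_lit 13)],
  [(nat_lit 17), (nat_lit 17)],
  [(nat_lit 3), (nat_lit 5), (nat_lit 3), (nat_lit 5), (nat_lit 3), (nat_lit 5)],
  [(nat_lit 3), (nat_lit 7), (nat_lit 3), (nat_lit 7)],
  [(nat_lit 3), (nat_lit 9), (nat_lit 3), (nat_lit 9)],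
  [(nat_lit 3), (nat_lit 15), (nat_lit 3), (nat_lit 15)],
  [(nat_lit 3), (nat_lit 11), (nat_lit 3), (nat_lit 11)],
  [(nat_lit 3), (nat_lit 13), (nat_lit 3), (nat_lit 13)],
  [(nat_lit 3), (nat_lit 17), (nat_lit 3), (nat_lit 17)],
  [(nat_lit 5), (nat_lit 7), (nat_lit 5), (nat_lit 7), (nat_lit 5), (nat_lit 7)],
  [(nat_lit 5), (nat_lit 9), (nat_lit 5), (nat_lit 9)],
  [(nat_lit 5), (nat_lit 15), (nat_lit 5), (nat_lit 15)],
  [(nat_lit 5), (nat_lit 11), (nat_lit 5), (nat_lit 11)],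
  [(nat_lit 5), (nat_lit 13), (nat_lit 5), (nat_lit 13)],
  [(nat_lit 5), (nat_lit 17), (nat_lit 5), (nat_lit 17)],
  [(nat_lit 7), (nat_lit 9), (nat_lit 7), (nat_lit 9), (nat_lit 7), (nat_lit 9)],
  [(nat_lit 7), (nat_lit 15), (nat_lit 7), (nat_lit 15), (nat_lit 7), (nat_lit 15)],
  [(nat_lit 7), (nat_lit 11), (nat_lit 7), (nat_lit 11)],
  [(nat_lit 7), (nat_lit 13), (nat_lit 7), (nat_lit 13)],
  [(nat_lit 7), (nat_lit 17), (nat_lit 7), (nat_lit 17)],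
  [(nat_lit 9), (nat_lit 15), (nat_lit 9), (nat_lit 15)],
  [(nat_lit 9), (nat_lit 11), (nat_lit 9), (nat_lit 11), (nat_lit 9), (nat_lit 11)],
  [(nat_lit 9), (nat_lit 13), (nat_lit 9), (nat_lit 13)],
  [(nat_lit 9), (nat_lit 17), (nat_lit 9), (nat_lit 17)],
  [(nat_lit 15), (nat_lit 11), (nat_lit 15), (nat_lit 11)],
  [(nat_lit 15), (nat_lit 13), (nat_lit 15), (nat_lit 13)],
  [(nat_lit 15), (nat_lit 17), (nat_lit 15), (nat_lit 17), (nat_lit 15), (nat_lit 17)],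
  [(nat_lit 11), (nat_lit 13), (nat_lit 11), (nat_lit 13), (nat_lit 11), (nat_lit 13)],
  [(nat_lit 11), (nat_lit 17), (nat_lit 11), (nat_lit 17)],
  [(nat_lit 13), (nat_lit 17), (nat_lit 13), (nat_lit 17)],
  [(nat_lit 7), (nat_lit 5), (nat_lit 3), (nat_lit 7), (nat_lit 9), (nat_lit 11), (nat_lit 7), (nat_lit 15), (nat_lit 17), (nat_lit 7), (nat_lit 5), (nat_lit 3), (nat_lit 7), (nat_lit 9), (nat_lit 11), (nat_lit 7), (nat_lit 15), (nat_lit 17), (nat_lit 7), (nat_lit 5), (nat_lit 3), (nat_lit 7), (nat_lit 9), (nat_lit 11), (nat_lit 7), (nat_lit 15), (nat_lit 17), (nat_lit 7), (nat_lit 5), (nat_lit 3), (nat_lit 7), (nat_lit 9), (nat_lit 11), (nat_lit 7), (nat_lit 15), (nat_lit 17), (nat_lit 7), (nat_lit 5), (nat_lit 3), (nat_lit 7), (nat_lit 9), (nat_lit 11), (nat_lit 7), (nat_lit 15), (nat_lit 17), (nat_lit 7), (nat_lit 5), (nat_lit 3), (nat_lit 7), (nat_lit 9), (nat_lit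 11), (nat_lit 7), (nat_lit 15), (nat_lit 17), (nat_lit 7), (nat_lit 5), (nat_lit 3), (nat_lit 7), (nat_lit 9), (nat_lit 11), (nat_lit 7), (nat_lit 15), (nat_lit 17), (nat_lit 7), (nat_lit 5), (nat_lit 3), (nat_lit 7), (nat_lit 9), (nat_lit 11), (nat_lit 7), (nat_lit 15), (nat_lit 17), (nat_lit 7), (nat_lit 5), (nat_lit 3), (nat_lit 7), (nat_lit 9), (nat_lit 11), (nat_lit 7), (nat_lit 15), (nat_lit 17), (nat_lit 7), (nat_lit 5), (nat_lit 3), (nat_lit 7), (nat_lit 9), (nat_lit 11), (nat_lit 7), (nat_lit 15), (nat_lit 17)],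
  [(nat_lit 3), (nat_lit 5), (nat_lit 7), (nat_lit 9), (nat_lit 11), (nat_lit 13), (nat_lit 15), (nat_lit 3), (nat_lit 5), (nat_lit 7), (nat_lit 9), (nat_lit 11), (nat_lit 13), (nat_lit 15), (nat_lit 3), (nat_lit 5), (nat_lit 7), (nat_lit 9), (nat_lit 11), (nat_lit 13), (nat_lit 15), (nat_lit 3), (nat_lit 5), (nat_lit 7), (nat_lit 9), (nat_lit 11), (nat_lit 13), (nat_lit 15), (nat_lit 3), (nat_lit 5), (nat_lit 7), (nat_lit 9), (nat_lit 11), (nat_lit 13), (nat_lit 15), (nat_lit 3), (nat_lit 5), (nat_lit 7), (nat_lit 9), (nat_lit 11), (nat_lit 13), (nat_lit 15), (nat_lit 3), (nat_lit 5), (nat_lit 7), (nat_lit 9), (nat_lit 11), (nat_lit 13), (nat_lit 15), (nat_lit 3), (nat_lit 5), (nat_lit 7), (nat_lit 9), (nat_lit 11), (nat_lit 13), (nat_lit 15), (nat_lit 3), (nat_lit 5), (nat_lit 7), (nat_lit 9), (nat_lit 11), (nat_lit 13), (nat_lit 15)]]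
noncomputable def H1 : List (List Nat) := [[(nat_lit 3)],
  [(nat_lit 5)],
  [(nat_lit 7)],
  [(nat_lit 9)],
  [(nat_lit 11)],
  [(nat_lit 13)],
  [(nat_lit 15)],
  [(nat_lit 17)]]
noncomputable def R2 : List (List Nat) := [[(nat_lit 3), (nat_lit 3)],
  [(nat_lit 5), (nat_lit 5)],
  [(nat_lit 7), (nat_lit 7)],
  [(nat_lit 9), (nat_lit 9)],
  [(nat_lit 15), (nat_lit 15)],
  [(nat_lit 11), (nat_lit 11)],
  [(nat_lit 17), (nat_lit 17)],
  [(nat_lit 3), (nat_lit 5), (nat_lit 3), (nat_lit 5), (nat_lit 3), (nat_lit 5)],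
  [(nat_lit 3), (nat_lit 7), (nat_lit 3), (nat_lit 7)],
  [(nat_lit 3), (nat_lit 9), (nat_lit 3), (nat_lit 9)],
  [(nat_lit 3), (nat_lit 15), (nat_lit 3), (nat_lit 15)],
  [(nat_lit 3), (nat_lit 11), (nat_lit 3), (nat_lit 11)],
  [(nat_lit 3), (nat_lit 17), (nat_lit 3), (nat_lit 17)],
  [(nat_lit 5), (nat_lit 7), (nat_lit 5), (nat_lit 7), (nat_lit 5), (nat_lit 7)],
  [(nat_lit 5), (nat_lit 9), (nat_lit 5), (nat_lit 9)],
  [(nat_lit 5), (nat_lit 15), (nat_lit 5), (nat_lit 15)],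
  [(nat_lit 5), (nat_lit 11), (nat_lit 5), (nat_lit 11)],
  [(nat_lit 5), (nat_lit 17), (nat_lit 5), (nat_lit 17)],
  [(nat_lit 7), (nat_lit 9), (nat_lit 7), (nat_lit 9), (nat_lit 7), (nat_lit 9)],
  [(nat_lit 7), (nat_lit 15), (nat_lit 7), (nat_lit 15), (nat_lit 7), (nat_lit 15)],
  [(nat_lit 7), (nat_lit 11), (nat_lit 7), (nat_lit 11)],
  [(nat_lit 7), (nat_lit 17), (nat_lit 7), (nat_lit 17)],
  [(nat_lit 9), (nat_lit 15), (nat_lit 9), (nat_lit 15)],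
  [(nat_lit 9), (nat_lit 11), (nat_lit 9), (nat_lit 11), (nat_lit 9), (nat_lit 11)],
  [(nat_lit 9), (nat_lit 17), (nat_lit 9), (nat_lit 17)],
  [(nat_lit 15), (nat_lit 11), (nat_lit 15), (nat_lit 11)],
  [(nat_lit 15), (nat_lit 17), (nat_lit 15), (nat_lit 17), (nat_lit 15), (nat_lit 17)],
  [(nat_lit 11), (nat_lit 17), (nat_lit 11), (nat_lit 17)],
  [(nat_lit 7), (nat_lit 5), (nat_lit 3), (nat_lit 7), (nat_lit 9), (nat_lit 11), (nat_lit 7), (nat_lit 15), (nat_lit 17), (nat_lit 7), (nat_lit 5), (nat_lit 3), (nat_lit 7), (nat_lit 9), (nat_lit 11), (nat_lit 7), (nat_lit 15), (nat_lit 17), (nat_lit 7), (nat_lit 5), (nat_lit 3), (nat_lit 7), (nat_lit 9), (nat_lit 11), (nat_lit 7), (nat_lit 15), (nat_lit 17), (nat_lit 7), (nat_lit 5), (nat_lit 3), (nat_lit 7), (nat_lit 9), (nat_lit 11), (nat_lit 7), (nat_lit 15), (nat_lit 17), (nat_lit 7), (nat_lit 5), (nat_lit 3), (nat_lit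 7), (nat_lit 9), (nat_lit 11), (nat_lit 7), (nat_lit 15), (nat_lit 17), (nat_lit 7), (nat_lit 5), (nat_lit 3), (nat_lit 7), (nat_lit 9), (nat_lit 11), (nat_lit 7), (nat_lit 15), (nat_lit 17), (nat_lit 7), (nat_lit 5), (nat_lit 3), (nat_lit 7), (nat_lit 9), (nat_lit 11), (nat_lit 7), (nat_lit 15), (nat_lit 17), (nat_lit 7), (nat_lit 5), (nat_lit 3), (nat_lit 7), (nat_lit 9), (nat_lit 11), (nat_lit 7), (nat_lit 15), (nat_lit 17), (nat_lit 7), (nat_lit 5), (nat_lit 3), (nat_lit 7), (nat_lit 9), (nat_lit 11), (nat_lit 7), (nat_lit 15), (nat_lit 17), (nat_lit 7), (nat_lit 5), (nat_lit 3), (nat_lit 7), (nat_lit 9), (nat_lit 11), (nat_lit 7), (nat_lit 15), (nat_lit 17)]]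
noncomputable def H2 : List (List Nat) := [[(nat_lit 3)],
  [(nat_lit 5)],
  [(nat_lit 7)],
  [(nat_lit 9)],
  [(nat_lit 11)],
  [(nat_lit 15)],
  [(nat_lit 17)]]
noncomputable def R3 : List (List Nat) := [[(nat_lit 3), (nat_lit 3)],
  [(nat_lit 5), (nat_lit 5)],
  [(nat_lit 7), (nat_lit 7)],
  [(nat_lit 9), (nat_lit 9)],
  [(nat_lit 15), (nat_lit 15)],
  [(nat_lit 11), (nat_lit 11)],
  [(nat_lit 3), (nat_lit 5), (nat_lit 3), (nat_lit 5), (nat_lit 3), (nat_lit 5)],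
  [(nat_lit 3), (nat_lit 7), (nat_lit 3), (nat_lit 7)],
  [(nat_lit 3), (nat_lit 9), (nat_lit 3), (nat_lit 9)],
  [(nat_lit 3), (nat_lit 15), (nat_lit 3), (nat_lit 15)],
  [(nat_lit 3), (nat_lit 11), (nat_lit 3), (nat_lit 11)],
  [(nat_lit 5), (nat_lit 7), (nat_lit 5), (nat_lit 7), (nat_lit 5), (nat_lit 7)],
  [(nat_lit 5), (nat_lit 9), (nat_lit 5), (nat_lit 9)],
  [(nat_lit 5), (nat_lit 15), (nat_lit 5), (nat_lit 15)],
  [(nat_lit 5), (nat_lit 11), (nat_lit 5), (nat_lit 11)],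
  [(nat_lit 7), (nat_lit 9), (nat_lit 7), (nat_lit 9), (nat_lit 7), (nat_lit 9)],
  [(nat_lit 7), (nat_lit 15), (nat_lit 7), (nat_lit 15), (nat_lit 7), (nat_lit 15)],
  [(nat_lit 7), (nat_lit 11), (nat_lit 7), (nat_lit 11)],
  [(nat_lit 9), (nat_lit 15), (nat_lit 9), (nat_lit 15)],
  [(nat_lit 9), (nat_lit 11), (nat_lit 9), (nat_lit 11), (nat_lit 9), (nat_lit 11)],
  [(nat_lit 15), (nat_lit 11), (nat_lit 15), (nat_lit 11)]]
noncomputable def H3 : List (List Nat) := [[(nat_lit 3)],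
  [(nat_lit 5)],
  [(nat_lit 7)],
  [(nat_lit 9)],
  [(nat_lit 11)],
  [(nat_lit 15)]]
noncomputable def R4 : List (List Nat) := [[(nat_lit 5), (nat_lit 5)],
  [(nat_lit 7), (nat_lit 7)],
  [(nat_lit 9), (nat_lit 9)],
  [(nat_lit 15), (nat_lit 15)],
  [(nat_lit 11), (nat_lit 11)],
  [(nat_lit 5), (nat_lit 7), (nat_lit 5), (nat_lit 7), (nat_lit 5), (nat_lit 7)],
  [(nat_lit 5), (nat_lit 9), (nat_lit 5), (nat_lit 9)],
  [(nat_lit 5), (nat_lit 15), (nat_lit 5), (nat_lit 15)],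
  [(nat_lit 5), (nat_lit 11), (nat_lit 5), (nat_lit 11)],
  [(nat_lit 7), (nat_lit 9), (nat_lit 7), (nat_lit 9), (nat_lit 7), (nat_lit 9)],
  [(nat_lit 7), (nat_lit 15), (nat_lit 7), (nat_lit 15), (nat_lit 7), (nat_lit 15)],
  [(nat_lit 7), (nat_lit 11), (nat_lit 7), (nat_lit 11)],
  [(nat_lit 9), (nat_lit 15), (nat_lit 9), (nat_lit 15)],
  [(nat_lit 9), (nat_lit 11), (nat_lit 9), (nat_lit 11), (nat_lit 9), (nat_lit 11)],
  [(nat_lit 15), (nat_lit 11), (nat_lit 15), (nat_lit 11)]]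
noncomputable def H4 : List (List Nat) := [[(nat_lit 5)],
  [(nat_lit 7)],
  [(nat_lit 9)],
  [(nat_lit 11)],
  [(nat_lit 15)]]
noncomputable def R5 : List (List Nat) := [[(nat_lit 5), (nat_lit 5)],
  [(nat_lit 7), (nat_lit 7)],
  [(nat_lit 9), (nat_lit 9)],
  [(nat_lit 11), (nat_lit 11)],
  [(nat_lit 5), (nat_lit 7), (nat_lit 5), (nat_lit 7), (nat_lit 5), (nat_lit 7)],
  [(nat_lit 5), (nat_lit 9), (nat_lit 5), (nat_lit 9)],
  [(nat_lit 5), (nat_lit 11), (nat_lit 5), (nat_lit 11)],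
  [(nat_lit 7), (nat_lit 9), (nat_lit 7), (nat_lit 9), (nat_lit 7), (nat_lit 9)],
  [(nat_lit 7), (nat_lit 11), (nat_lit 7), (nat_lit 11)],
  [(nat_lit 9), (nat_lit 11), (nat_lit 9), (nat_lit 11), (nat_lit 9), (nat_lit 11)]]
noncomputable def H5 : List (List Nat) := [[(nat_lit 5)],
  [(nat_lit 7)],
  [(nat_lit 9)],
  [(nat_lit 11)]]
noncomputable def R6 : List (List Nat) := [[(nat_lit 5), (nat_lit 5)],
  [(nat_lit 7), (nat_lit 7)],
  [(nat_lit 9), (nat_lit 9)],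
  [(nat_lit 5), (nat_lit 7), (nat_lit 5), (nat_lit 7), (nat_lit 5), (nat_lit 7)],
  [(nat_lit 5), (nat_lit 9), (nat_lit 5), (nat_lit 9)],
  [(nat_lit 7), (nat_lit 9), (nat_lit 7), (nat_lit 9), (nat_lit 7), (nat_lit 9)]]
noncomputable def H6 : List (List Nat) := [[(nat_lit 5)],
  [(nat_lit 7)],
  [(nat_lit 9)]]
noncomputable def HU0 : List (List Nat) := [[(nat_lit 1)],
  [(nat_lit 5)],
  [(nat_lit 7)],
  [(nat_lit 9)],
  [(nat_lit 11)],
  [(nat_lit 13)],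
  [(nat_lit 15)],
  [(nat_lit 17)],
  [(nat_lit 1), (nat_lit 3), (nat_lit 5), (nat_lit 7), (nat_lit 9), (nat_lit 15), (nat_lit 1), (nat_lit 3), (nat_lit 5), (nat_lit 7), (nat_lit 9), (nat_lit 15), (nat_lit 1), (nat_lit 3), (nat_lit 5), (nat_lit 7), (nat_lit 9), (nat_lit 15), (nat_lit 1), (nat_lit 3), (nat_lit 5), (nat_lit 7), (nat_lit 9), (nat_lit 15), (nat_lit 1), (nat_lit 3), (nat_lit 5), (nat_lit 7), (nat_lit 9), (nat_lit 15)]]
noncomputable def HU : List (List Nat) := [[(nat_lit 1)],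
  [(nat_lit 5)],
  [(nat_lit 7)],
  [(nat_lit 9)],
  [(nat_lit 11)],
  [(nat_lit 13)],
  [(nat_lit 15)],
  [(nat_lit 17)],
  [(nat_lit 19)]]

end CF.Comp.Fi22
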